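import Cfsg.Agent.H355.LspDefs
import Cfsg.Agent.H355.TwoPoint
import Cfsg.Agent.OddOrderLocal.HallPi
import Cfsg.Agent.S0043

/-!
# Fixity two, solvable groups: preliminaries (helper779, for S3392)
-/

set_option autoImplicit false

open Cfsg

namespace Cfsg.Agent.H779.Lsp

open Subgroup MulAction
open scoped Pointwise

variable {G : Type*} [Group G]

theorem frob_subgroup {D H : Subgroup G} (hDH : D ≤ H) (h1 : D ≠ ⊥) (h2 : D ≠ H)
    (h : ∀ g ∈ H, g ∉ D → ∀ d ∈ D, g * d * g⁻¹ ∈ D → d = 1) : IsFrobeniusComplement (D.subgroupOf H) := by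
  refine ⟨?_, ?_, ?_⟩
  · rw [Ne, Subgroup.subgroupOf_eq_bot, disjoint_iff, inf_eq_left.2 hDH]
    exact h1
  · rw [Ne, Subgroup.subgroupOf_eq_top]
    exact fun h3 => h2 (le_antisymm hDH h3)
  · intro g hg
    rw [eq_bot_iff]
    rintro x ⟨hx1, hx2⟩
    obtain ⟨d, hd, rfl⟩ := (mem_smul_pointwise_iff_exists x (MulAut.conj g) (D.subgroupOf H)).1 hx2
    have h3 : (d : G) = 1 := h g g.2 hg d hd hx1
    have h4 : d = 1 := Subtype.ext h3
    rw [h4, smul_one]
    exact one_mem _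

theorem exists_odd_core [Finite G] : ∃ T : Subgroup G, T.Normal ∧ IsPGroup 2 T ∧
    ∀ N : Subgroup G, N.Normal → IsPGroup 2 N → N ≤ T := by
  have : Fact (Nat.Prime 2) := ⟨Nat.prime_two⟩
  obtain ⟨P⟩ : Nonempty (Sylow 2 G) := inferInstance
  refine ⟨(P : Subgroup G).normalCore, inferInstance, P.isPGroup'.to_le (normalCore_le _), fun N hN hN2 => ?_⟩
  exact normal_le_normalCore.2 (hN2.le_sylow_of_normal P)

theorem exists_minimal [Finite G] [Nontrivial G] : ∃ A : Subgroup G, A.Normal ∧ A ≠ ⊥ ∧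
    ∀ M : Subgroup G, M.Normal → M ≤ A → M = ⊥ ∨ M = A := by
  obtain ⟨A, hA⟩ := (Set.toFinite {N : Subgroup G | N.Normal ∧ N ≠ ⊥}).exists_minimal
    ⟨⊤, inferInstance, top_ne_bot⟩
  refine ⟨A, hA.prop.1, hA.prop.2, fun M hM hMA => ?_⟩
  by_cases h : M = ⊥
  · exact Or.inl h
  · exact Or.inr (le_antisymm hMA (hA.le_of_le ⟨hM, h⟩ hMA))

theorem relIndex_dvd_of_normal [Finite G] {Y D : Subgroup G} [hY : Y.Normal] : (Y ⊓ D).relIndex Y ∣ D.index := by
  have h1 : (Y ⊓ D).relIndex Y * Y.index = (Y ⊓ D).index := relIndex_mul_index inf_le_left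
  have h2 : (Y ⊓ D).relIndex D * D.index = (Y ⊓ D).index := relIndex_mul_index inf_le_right
  have h3 : (Y ⊓ D).relIndex D = Y.relIndex D := inf_relIndex_right _ _
  obtain ⟨c, hc⟩ : Y.relIndex D ∣ Y.index := relIndex_dvd_index_of_normal Y D
  have h0 : 0 < Y.relIndex D := Nat.pos_of_ne_zero (by
    have := Y.index_ne_zero_of_finite
    intro h
    rw [h, zero_mul] at hc
    exact this hc)
  refine ⟨c, ?_⟩
  apply Nat.eq_of_mul_eq_mul_left h0
  rw [← h3, h2, ← h1, hc, h3]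
  ring

theorem le_of_odd_normal [Finite G] {N D : Subgroup G} [hN : N.Normal] (ho : Odd (Nat.card N)) {k : ℕ}
    (hD : D.index ∣ 2 ^ k) : N ≤ D := by
  have h1 : (N ⊓ D).relIndex N ∣ 2 ^ k := relIndex_dvd_of_normal.trans hD
  have h2 : (N ⊓ D).relIndex N ∣ Nat.card N := relIndex_dvd_card _ _
  have h3 : (N ⊓ D).relIndex N = 1 := by
    have hc : Nat.Coprime (2 ^ k) (Nat.card N) := by
      apply Nat.Coprime.pow_left
      rw [Nat.coprime_two_left]
      exact ho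
    exact Nat.eq_one_of_dvd_coprimes hc h1 h2
  rw [relIndex_eq_one] at h3
  exact h3.trans inf_le_right

theorem odd_card_of_exp [Finite G] {N : Subgroup G} {p : ℕ} (hp : p.Prime) (hp2 : p ≠ 2) (h : ∀ x ∈ N, x ^ p = 1) :
    IsPGroup p N ∧ Odd (Nat.card N) := by
  have : Fact p.Prime := ⟨hp⟩
  have h1 : IsPGroup p N := fun x => ⟨1, by rw [pow_one]; exact Subtype.ext (h x x.2)⟩
  obtain ⟨n, hn⟩ := h1.exists_card_eq
  refine ⟨h1, ?_⟩
  rw [hn]
  exact (hp.odd_of_ne_two hp2).pow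

/-- Hall `2'`-subgroups -/
theorem exists_hall [Finite G] [Group.IsSolvable G] {D : Subgroup G} (hD : Odd (Nat.card D)) :
    ∃ C : Subgroup G, D ≤ C ∧ Odd (Nat.card C) ∧ ∃ n : ℕ, C.index = 2 ^ n := by
  obtain ⟨C, h1, h2, h3⟩ := Cfsg.Agent.OddOrderLocal.HallPi.exists_hall_ge_top (G := G) {p : ℕ | p ≠ 2} (X := D) (by
    intro p hp hpd
    rintro rfl
    exact absurd hD (Nat.not_odd_iff_even.2 (even_iff_two_dvd.2 hpd)))
  refine ⟨C, h3, ?_, ?_⟩
  · rw [← Nat.not_even_iff_odd, even_iff_two_dvd]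
    exact fun h => h1 2 Nat.prime_two h rfl
  · exact ⟨_, Nat.eq_prime_pow_of_unique_prime_dvd C.index_ne_zero_of_finite (fun {d} hd hdi => by
      by_contra hne
      exact h2 d hd hne hdi)⟩

end Cfsg.Agent.H779.Lsp
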