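import Cfsg.Agent.H779.Lsp.Solv
import Cfsg.Agent.S0035
import Cfsg.Agent.S0042
import Cfsg.Agent.S0205

/-!
# Fixity two: a normal 2-subgroup with a non-trivial centralizer condition (helper779, for S3392)
-/

set_option autoImplicit false

open Cfsg

namespace Cfsg.Agent.H779.Lsp

open Subgroup MulAction
open Cfsg.Agent.H355.Lsp Cfsg.Agent.H355.TwoPoint Cfsg.Agent.H355.SylowTwo
open scoped Pointwise

theorem frob_of {G : Type*} [Group G] {D : Subgroup G} (h1 : D ≠ ⊥) (h2 : D ≠ ⊤)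
    (h : ∀ g, g ∉ D → ∀ d ∈ D, g * d * g⁻¹ ∈ D → d = 1) : IsFrobeniusComplement D := by
  refine ⟨h1, h2, ?_⟩
  intro g hg
  rw [eq_bot_iff]
  rintro x ⟨hx1, hx2⟩
  obtain ⟨d, hd, rfl⟩ := (mem_smul_pointwise_iff_exists x (MulAut.conj g) D).1 hx2
  rw [h g hg d hd hx1, smul_one]
  exact one_mem _

theorem solvable_of_nilpotent_odd {G : Type*} [Group G] [Finite G] (N : Subgroup G) [N.Normal]
    (hN : Group.IsSolvable N) (ho : Odd N.index) : Group.IsSolvable G := by
  have h1 : Group.IsSolvable (G ⧸ N) := Cfsg.Agent.S0205.result ho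
  exact (Group.isSolvable_iff_subgroup_quotient N).2 ⟨hN, h1⟩

/-- conjugacy of `p`-elements modulo a normal 2-subgroup -/
theorem exists_conj_mem {G : Type*} [Group G] [Finite G] {T : Subgroup G} (hT : T.Normal) (hT2 : IsPGroup 2 T)
    {p : ℕ} (hp : p.Prime) (hp2 : p ≠ 2) {d x : G} (hd : orderOf d = p) (hx : orderOf x = p)
    (hdx : d⁻¹ * x ∈ T) : ∃ m ∈ T ⊔ zpowers d, m⁻¹ * x * m ∈ zpowers d := by
  have : Fact p.Prime := ⟨hp⟩
  have : Fact (Nat.Prime 2) := ⟨Nat.prime_two⟩
  set M := T ⊔ zpowers d with hM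
  have hdM : zpowers d ≤ M := le_sup_right
  have hTM : T ≤ M := le_sup_left
  have hxM : x ∈ M := by
    have h1 : x = d * (d⁻¹ * x) := by group
    rw [h1]
    exact M.mul_mem (hdM (mem_zpowers d)) (hTM hdx)
  have hcard : ∀ y : G, orderOf y = p → y ∈ M → Nat.card ((zpowers y).subgroupOf M) = p := by
    intro y hy hyM
    rw [Nat.card_congr (subgroupOfEquivOfLe (zpowers_le.2 hyM)).toEquiv, Nat.card_zpowers, hy]
  have hPp : IsPGroup p ((zpowers d).subgroupOf M) :=
    IsPGroup.of_card (n := 1) (by rw [hcard d hd (hdM (mem_zpowers d)), pow_one])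
  have hXp : IsPGroup p ((zpowers x).subgroupOf M) :=
    IsPGroup.of_card (n := 1) (by rw [hcard x hx hxM, pow_one])
  obtain ⟨n, hn⟩ := hT2.exists_card_eq
  have hidx : ¬ p ∣ ((zpowers d).subgroupOf M).index := by
    intro h1
    have h2 := card_mul_index ((zpowers d).subgroupOf M)
    rw [hcard d hd (hdM (mem_zpowers d))] at h2
    have h3 := card_mul_index (T.subgroupOf M)
    rw [Nat.card_congr (subgroupOfEquivOfLe hTM).toEquiv, hn, ← h2] at h3
    have h4 : (T.subgroupOf M).index ∣ p := by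
      have h5 : T.relIndex M = T.relIndex (zpowers d) := by rw [hM, relIndex_sup_left]
      have h6 : T.relIndex (zpowers d) ∣ Nat.card (zpowers d) := relIndex_dvd_card _ _
      rw [Nat.card_zpowers, hd, ← h5] at h6
      exact h6
    obtain ⟨c, hc⟩ := h4
    have h5 : 2 ^ n * p = p * (((zpowers d).subgroupOf M).index * c) := by
      rw [hc]
      calc 2 ^ n * ((T.subgroupOf M).index * c) = (2 ^ n * (T.subgroupOf M).index) * c := by ring
        _ = (p * ((zpowers d).subgroupOf M).index) * c := by rw [h3]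
        _ = _ := by rw [← hc]; ring
    have h6 : ((zpowers d).subgroupOf M).index * c = 2 ^ n := by
      apply Nat.eq_of_mul_eq_mul_left hp.pos
      rw [← h5, mul_comm]
    have h7 : p ∣ 2 ^ n := by
      rw [← h6]
      exact h1.mul_right c
    exact hp2 ((Nat.prime_dvd_prime_iff_eq hp Nat.prime_two).1 (hp.dvd_of_dvd_pow h7))
  obtain ⟨S, hS⟩ := hXp.exists_le_sylow
  obtain ⟨m, hm⟩ := exists_smul_eq M (hPp.toSylow hidx) S
  have h1 : (⟨x, hxM⟩ : M) ∈ (S : Subgroup M) := hS (mem_zpowers x)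
  rw [← hm, Sylow.coe_subgroup_smul] at h1
  obtain ⟨c, hc, hcx⟩ := (mem_smul_pointwise_iff_exists _ _ _).1 h1
  have hcx' : (m : G) * c * (m : G)⁻¹ = x := congrArg Subtype.val hcx
  refine ⟨m, m.2, ?_⟩
  have h2 : (m : G)⁻¹ * x * m = c := by rw [← hcx']; group
  rw [h2]
  exact hc

variable {G : Type*} [Group G] [Finite G] {Ω : Type*} [Finite Ω] [MulAction G Ω] [FaithfulSMul G Ω]

/-- **LSP-I** -/
theorem solvable_of_two (h : Fix2 G Ω) (hodd : ∀ α : Ω, Odd (Nat.card (MulAction.stabilizer G α)))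
    {T : Subgroup G} (hT : T.Normal) (hT2 : IsPGroup 2 T) {g z : G} {α : Ω} (hg : g ≠ 1) (hgα : g • α = α)
    (hz : z ∈ T) (hz1 : z ≠ 1) (hc : g * z = z * g) : Group.IsSolvable G := by
  have : Fact (Nat.Prime 2) := ⟨Nat.prime_two⟩
  have hfree : ∀ t ∈ T, ∀ γ : Ω, t • γ = γ → t = 1 := by
    intro t ht γ hγ
    have h1 := inf_eq_bot_of_two hT2 (hodd γ)
    have h2 : t ∈ T ⊓ stabilizer G γ := ⟨ht, hγ⟩
    rw [h1] at h2
    exact h2
  obtain ⟨β, hβ⟩ : ∃ β, β = z • α := ⟨_, rfl⟩
  have hαβ : α ≠ β := by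
    rintro rfl
    exact hz1 (hfree z hz _ hβ.symm)
  have hgβ : g • β = β := by rw [hβ, ← mul_smul, hc, mul_smul, hgα]
  obtain ⟨D, hD⟩ : ∃ D, D = stabilizer G α ⊓ stabilizer G β := ⟨_, rfl⟩
  have hgD : g ∈ D := by rw [hD]; exact ⟨hgα, hgβ⟩
  have hne : D ≠ ⊥ := by
    intro h1
    rw [h1] at hgD
    exact hg hgD
  have hDodd : Odd (Nat.card D) := by
    rw [hD]
    exact (hodd α).of_dvd_nat (Subgroup.card_dvd_of_le inf_le_left)
  have E : ETI D := by
    rw [hD] at hne ⊢
    exact eti h.fix hαβ hne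
  have hzβ : z • β = α := by
    have h1 : g • z • β = z • β := by rw [← mul_smul, hc, mul_smul, hgβ]
    rcases fixed_eq h.fix hαβ hg hgα hgβ h1 with h2 | h2
    · exact h2
    · exact absurd (hfree z hz β h2) hz1
  have hzN : z ∈ normalizer (D : Set G) := by
    rw [hD] at hne ⊢
    exact (mem_normalizer_iff h.fix hαβ hne).2 (Or.inr ⟨hβ.symm, hzβ⟩)
  have hTDbot : T ⊓ D = ⊥ := inf_eq_bot_of_two hT2 hDodd
  have hzD : z ∉ D := by
    intro h1
    have h2 : z ∈ T ⊓ D := ⟨hz, h1⟩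
    rw [hTDbot] at h2
    exact hz1 h2
  have hNle : normalizer (D : Set G) ≤ T ⊔ D := by
    intro x hx
    by_cases hxD : x ∈ D
    · exact (le_sup_right : D ≤ T ⊔ D) hxD
    · have h1 := E.mul x z hx hzN hxD hzD
      exact ((T ⊔ D).mul_mem_cancel_right ((le_sup_left : T ≤ T ⊔ D) hz)).1 ((le_sup_right : D ≤ T ⊔ D) h1)
  set Q := QuotientGroup.mk' T with hQ
  have hker : ∀ x : G, Q x = 1 ↔ x ∈ T := fun x => by
    rw [hQ, QuotientGroup.mk'_apply, QuotientGroup.eq_one_iff]
  have hD'odd : Odd (Nat.card (D.map Q)) := hDodd.of_dvd_nat (card_map_dvd D Q)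
  have hTs : Group.IsSolvable T := by
    have := hT2.isNilpotent
    infer_instance
  refine (Group.isSolvable_iff_subgroup_quotient T).2 ⟨hTs, ?_⟩
  by_cases htop : D.map Q = ⊤
  · rw [htop] at hD'odd
    apply Cfsg.Agent.S0205.result
    rwa [card_top] at hD'odd
  have hfrob : IsFrobeniusComplement (D.map Q) := by
    refine frob_of ?_ htop ?_
    · intro h1
      have h2 : Q g = 1 := by
        have : Q g ∈ D.map Q := mem_map_of_mem _ hgD
        rw [h1] at this
        exact this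
      have h3 : g ∈ T ⊓ D := ⟨(hker g).1 h2, hgD⟩
      rw [hTDbot] at h3
      exact hg h3
    · intro y hy e he hye
      by_contra he1
      obtain ⟨y, rfl⟩ := QuotientGroup.mk'_surjective T y
      obtain ⟨e, heD, rfl⟩ := mem_map.1 he
      rw [← hQ] at *
      apply hy
      -- pass to an element of prime order
      have he1' : e ≠ 1 := by
        rintro rfl
        exact he1 (map_one _)
      obtain ⟨p, hp, hpe⟩ := Nat.exists_prime_and_dvd (fun h1 => he1' (orderOf_eq_one_iff.1 h1))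
      obtain ⟨k, hk⟩ := hpe
      obtain ⟨f, hf⟩ : ∃ f, f = e ^ k := ⟨_, rfl⟩
      have hk0 : k ≠ 0 := by
        rintro rfl
        rw [mul_zero] at hk
        exact (orderOf_pos e).ne' hk
      have hfo : orderOf f = p := by
        rw [hf, orderOf_pow_of_dvd hk0 (Dvd.intro_left _ hk.symm), hk]
        exact Nat.mul_div_cancel _ (Nat.pos_of_ne_zero hk0)
      have hfD : f ∈ D := by rw [hf]; exact D.pow_mem heD k
      have hp2 : p ≠ 2 := by
        rintro rfl
        have h1 : Odd (orderOf f) := hDodd.of_dvd_nat (Subgroup.orderOf_dvd_natCard D hfD)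
        rw [hfo] at h1
        exact absurd h1 (by decide)
      have hf1 : f ≠ 1 := by
        intro h1
        rw [h1, orderOf_one] at hfo
        exact hp.one_lt.ne hfo
      have hyf : Q y * Q f * (Q y)⁻¹ ∈ D.map Q := by
        have h1 : Q y * Q f * (Q y)⁻¹ = (Q y * Q e * (Q y)⁻¹) ^ k := by rw [conj_pow, hf, map_pow]
        rw [h1]
        exact pow_mem hye k
      rw [← map_inv, ← map_mul, ← map_mul] at hyf
      obtain ⟨d, hd, hdy⟩ := mem_map.1 hyf
      obtain ⟨x, hx⟩ : ∃ x, x = y * f * y⁻¹ := ⟨_, rfl⟩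
      rw [← hx] at hdy
      have hxo : orderOf x = p := by
        rw [hx, ← hfo]
        have := orderOf_injective (MulAut.conj y).toMonoidHom (MulAut.conj y).injective f
        simpa using this
      have hdx : d⁻¹ * x ∈ T := by rw [← hker, map_mul, map_inv, hdy, inv_mul_cancel]
      have hd1 : d ≠ 1 := by
        rintro rfl
        rw [inv_one, one_mul] at hdx
        have h1 : f ∈ T ⊓ D := by
          refine ⟨?_, hfD⟩
          have h0 := hT.conj_mem _ hdx y⁻¹
          have h0' : y⁻¹ * x * y⁻¹⁻¹ = f := by rw [hx]; group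
          rw [h0'] at h0
          exact h0
        rw [hTDbot] at h1
        exact hf1 h1
      have hdp : d ^ p = 1 := by
        have h1 : d ^ p ∈ T ⊓ D := by
          refine ⟨(hker _).1 ?_, D.pow_mem hd p⟩
          rw [map_pow, hdy, ← map_pow, ← hxo, pow_orderOf_eq_one, map_one]
        rw [hTDbot] at h1
        exact h1
      have hdo : orderOf d = p := by
        have : Fact p.Prime := ⟨hp⟩
        exact orderOf_eq_prime hdp hd1
      obtain ⟨m, hm, hmx⟩ := exists_conj_mem hT hT2 hp hp2 hdo hxo hdx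
      have hle : T ⊔ zpowers d ≤ T ⊔ D := sup_le_sup_left (zpowers_le.2 hd) T
      have h1 : m⁻¹ * y ∈ normalizer (D : Set G) := by
        refine E.ti _ f hfD hf1 ?_
        have h2 : m⁻¹ * y * f * (m⁻¹ * y)⁻¹ = m⁻¹ * x * m := by rw [hx]; group
        rw [h2]
        exact (zpowers_le.2 hd) hmx
      have h2 : y ∈ T ⊔ D := ((T ⊔ D).mul_mem_cancel_left ((T ⊔ D).inv_mem (hle hm))).1 (hNle h1)
      obtain ⟨t, ht, d', hd', rfl⟩ := mem_sup_of_normal_left.1 h2
      rw [map_mul, (hker t).2 ht, one_mul]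
      exact mem_map_of_mem _ hd'
  obtain ⟨N, hN1, hN, hNc⟩ := Cfsg.Agent.S0035.result _ hfrob
  obtain ⟨N', hN1', hN', hN'n⟩ := Cfsg.Agent.S0042.result _ hfrob
  have hNN : N = N' := SetLike.coe_injective (hN1.trans hN1'.symm)
  subst hNN
  refine solvable_of_nilpotent_odd N inferInstance ?_
  rw [hNc.symm.index_eq_card]
  exact hD'odd

end Cfsg.Agent.H779.Lsp
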