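import Cfsg.Agent.H779.Lsp.Base
import Cfsg.Agent.H355.Fixity

/-!
# Fixity two, solvable groups (helper779, for S3392)
-/

set_option autoImplicit false

open Cfsg

namespace Cfsg.Agent.H779.Lsp

open Subgroup MulAction
open Cfsg.Agent.H355.Lsp Cfsg.Agent.H355.TwoPoint Cfsg.Agent.H355.SylowTwo
open scoped Pointwise

variable {G : Type*} [Group G] [Finite G] {Ω : Type*} [Finite Ω] [MulAction G Ω] [FaithfulSMul G Ω]

/-- the data of a two-point stabilizer -/
theorem exists_pair (h : Fix2 G Ω) : ∃ (g : G) (α β : Ω), g ≠ 1 ∧ α ≠ β ∧ g • α = α ∧ g • β = β := by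
  obtain ⟨g, hg, hc⟩ := h.ex
  obtain ⟨a, b, hab, -⟩ := Nat.card_eq_two_iff.1 hc
  exact ⟨g, a, b, hg, fun h1 => hab (Subtype.ext h1), a.2, b.2⟩

/-- normal subgroups in a point stabilizer are trivial -/
theorem normal_eq_bot (h : Fix2 G Ω) {N : Subgroup G} (hN : N.Normal) {α : Ω} (hNα : N ≤ stabilizer G α) : N = ⊥ := by
  rw [eq_bot_iff]
  intro x hx
  rw [mem_bot]
  apply FaithfulSMul.eq_of_smul_eq_smul (α := Ω)
  intro γ
  have := h.tr
  obtain ⟨g, rfl⟩ := exists_smul_eq G α γ
  have h1 : g⁻¹ * x * g ∈ N := by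
    have := hN.conj_mem x hx g⁻¹
    rwa [inv_inv] at this
  have h2 : (g⁻¹ * x * g) • α = α := hNα h1
  rw [one_smul]
  calc x • g • α = g • ((g⁻¹ * x * g) • α) := by simp only [← mul_smul]; congr 1; group
    _ = g • α := by rw [h2]

theorem eq_one_of_central (h : Fix2 G Ω) {x : G} (hx : x ∈ center G) {α : Ω} (hα : x • α = α) : x = 1 := by
  apply FaithfulSMul.eq_of_smul_eq_smul (α := Ω)
  intro γ
  have := h.tr
  obtain ⟨g, rfl⟩ := exists_smul_eq G α γ
  rw [one_smul, ← mul_smul, ← mem_center_iff.1 hx g, mul_smul, hα]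

theorem inf_eq_bot_of_two {T D : Subgroup G} (hT : IsPGroup 2 T) (hD : Odd (Nat.card D)) : T ⊓ D = ⊥ := by
  apply inf_eq_bot_of_coprime
  have : Fact (Nat.Prime 2) := ⟨Nat.prime_two⟩
  obtain ⟨n, hn⟩ := hT.exists_card_eq
  rw [hn]
  apply Nat.Coprime.pow_left
  rw [Nat.coprime_two_left]
  exact hD

theorem index_two_pow {D H : Subgroup G} {n : ℕ} (hD : D.index = 2 ^ n) (hDH : D ≤ H) : ∃ k, H.index = 2 ^ k := by
  obtain ⟨k, -, hk⟩ := (Nat.dvd_prime_pow Nat.prime_two).1 ((index_dvd_of_le hDH).trans (dvd_of_eq hD))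
  exact ⟨k, hk⟩

/-- the case of a stabilizer of 2-power index, `G = T D` -/
theorem case_a (h : Fix2 G Ω) {α β : Ω} (hαβ : α ≠ β) {D T : Subgroup G} (hD : D = stabilizer G α ⊓ stabilizer G β)
    (hne : D ≠ ⊥) (hodd : ∀ α : Ω, Odd (Nat.card (MulAction.stabilizer G α)))
    {n : ℕ} (hn : D.index = 2 ^ n) (hT : T.Normal) (hT2 : IsPGroup 2 T) (hT1 : T ≠ ⊥) (hTD : T ⊔ D = ⊤) :
    One G ∨ Two G := by
  have : Fact (Nat.Prime 2) := ⟨Nat.prime_two⟩
  have htr := h.tr
  have hDodd : Odd (Nat.card D) := by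
    rw [hD]
    exact (hodd α).of_dvd_nat (Subgroup.card_dvd_of_le inf_le_left)
  have hα : ∀ d ∈ D, d • α = α := fun d hd => by rw [hD] at hd; exact hd.1
  have hβ : ∀ d ∈ D, d • β = β := fun d hd => by rw [hD] at hd; exact hd.2
  have hfree : ∀ t ∈ T, ∀ γ : Ω, t • γ = γ → t = 1 := by
    intro t ht γ hγ
    have h1 := inf_eq_bot_of_two hT2 (hodd γ)
    have h2 : t ∈ T ⊓ stabilizer G γ := ⟨ht, hγ⟩
    rw [h1] at h2
    exact h2
  have hTDbot : T ⊓ D = ⊥ := inf_eq_bot_of_two hT2 hDodd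
  have hdec : ∀ g : G, ∃ t ∈ T, ∃ d ∈ D, t * d = g := by
    intro g
    have h1 : g ∈ T ⊔ D := by rw [hTD]; trivial
    exact mem_sup_of_normal_left.1 h1
  have hmove : ∀ γ : Ω, ∃ t ∈ T, t • α = γ := by
    intro γ
    obtain ⟨g, rfl⟩ := exists_smul_eq G α γ
    obtain ⟨t, ht, d, hd, rfl⟩ := hdec g
    exact ⟨t, ht, by rw [mul_smul, hα d hd]⟩
  obtain ⟨t0, ht0, ht0α⟩ := hmove β
  have ht01 : t0 ≠ 1 := by
    rintro rfl
    rw [one_smul] at ht0α
    exact hαβ ht0α
  have hcomm : ∀ d ∈ D, d * t0 = t0 * d := by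
    intro d hd
    have h1 : d * t0 * d⁻¹ * t0⁻¹ ∈ T := T.mul_mem (hT.conj_mem _ ht0 _) (T.inv_mem ht0)
    have h2 : t0⁻¹ • β = α := by rw [inv_smul_eq_iff, ht0α]
    have h3 : d⁻¹ • α = α := hα _ (D.inv_mem hd)
    have h4 : (d * t0 * d⁻¹ * t0⁻¹) • β = β := by
      rw [mul_smul, h2, mul_smul, h3, mul_smul, ht0α, hβ d hd]
    have h5 := hfree _ h1 β h4
    have h6 : d * t0 = (d * t0 * d⁻¹ * t0⁻¹) * (t0 * d) := by group
    rw [h6, h5, one_mul]
  have hcent : ∀ d ∈ D, d ≠ 1 → ∀ t ∈ T, t * d = d * t → t = 1 ∨ t = t0 := by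
    intro d hd hd1 t ht htd
    have h1 : d • t • α = t • α := by rw [← mul_smul, ← htd, mul_smul, hα d hd]
    rcases fixed_eq h.fix hαβ hd1 (hα d hd) (hβ d hd) h1 with h2 | h2
    · exact Or.inl (hfree t ht α h2)
    · right
      have h3 : (t0⁻¹ * t) • α = α := by rw [mul_smul, h2, inv_smul_eq_iff, ht0α]
      have h4 := hfree _ (T.mul_mem (T.inv_mem ht0) ht) α h3
      exact (inv_mul_eq_one.1 h4).symm
  by_cases hcase : ∀ t ∈ T, t * t0 = t0 * t
  · -- `t0` is central
    right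
    have ht0c : t0 ∈ center G := by
      rw [mem_center_iff]
      intro g
      obtain ⟨t, ht, d, hd, rfl⟩ := hdec g
      rw [mul_assoc, hcomm d hd, ← mul_assoc, hcase t ht, mul_assoc]
    obtain ⟨d0, hd0, hd01⟩ : ∃ d ∈ D, d ≠ 1 := by
      by_contra hcon
      push Not at hcon
      exact hne ((Subgroup.eq_bot_iff_forall _).2 hcon)
    have hcen : ∀ x ∈ center G, x = 1 ∨ x = t0 := by
      intro x hx
      have h1 : d0 • x • α = x • α := by
        rw [← mul_smul, mem_center_iff.1 hx d0, mul_smul, hα d0 hd0]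
      rcases fixed_eq h.fix hαβ hd01 (hα d0 hd0) (hβ d0 hd0) h1 with h2 | h2
      · exact Or.inl (eq_one_of_central h hx h2)
      · right
        have h3 : (t0⁻¹ * x) • α = α := by rw [mul_smul, h2, inv_smul_eq_iff, ht0α]
        have h4 := eq_one_of_central h (mul_mem (inv_mem ht0c) hx) h3
        exact (inv_mul_eq_one.1 h4).symm
    have hsq : t0 * t0 = 1 := by
      rcases hcen _ (mul_mem ht0c ht0c) with h1 | h1
      · exact h1
      · exact absurd (mul_eq_left.1 h1) ht01
    refine ⟨?_, ?_⟩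
    · rw [Nat.card_eq_two_iff]
      refine ⟨1, ⟨t0, ht0c⟩, fun h1 => ht01 (congrArg Subtype.val h1).symm, ?_⟩
      rw [Set.eq_univ_iff_forall]
      rintro ⟨x, hx⟩
      rcases hcen x hx with rfl | rfl
      · exact Or.inl rfl
      · exact Or.inr rfl
    · set Q := QuotientGroup.mk' (center G) with hQ
      have hker : ∀ x : G, Q x = 1 ↔ x ∈ center G := fun x => by
        rw [hQ, QuotientGroup.mk'_apply, QuotientGroup.eq_one_iff]
      refine ⟨(D.map Q).subgroupOf ⊤, frob_subgroup le_top ?_ ?_ ?_⟩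
      · intro h1
        have h2 : Q d0 = 1 := by
          have : Q d0 ∈ D.map Q := mem_map_of_mem _ hd0
          rw [h1] at this
          exact this
        exact hd01 (eq_one_of_central h ((hker _).1 h2) (hα d0 hd0))
      · intro h1
        apply hd01
        apply FaithfulSMul.eq_of_smul_eq_smul (α := Ω)
        intro γ
        obtain ⟨t, ht, rfl⟩ := hmove γ
        have h2 : Q t ∈ D.map Q := by rw [h1]; trivial
        obtain ⟨d, hd, hdt⟩ := mem_map.1 h2
        have h3 : t * d⁻¹ ∈ center G := by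
          rw [← hker, map_mul, map_inv, hdt, mul_inv_cancel]
        have h4 : t = 1 ∨ t = t0 := by
          have key : t * d⁻¹ ∈ T → t = 1 ∨ t = t0 := by
            intro h5
            have h6 : d ∈ T := by
              have : d⁻¹ ∈ T := (T.mul_mem_cancel_left ht).1 h5
              simpa using this
            have h7 : d ∈ T ⊓ D := ⟨h6, hd⟩
            rw [hTDbot, mem_bot] at h7
            rw [h7, inv_one, mul_one] at h3
            exact hcen t h3
          rcases hcen _ h3 with h5 | h5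
          · exact key (by rw [h5]; exact one_mem _)
          · exact key (by rw [h5]; exact ht0)
        rw [one_smul]
        rcases h4 with rfl | rfl
        · rw [one_smul, hα d0 hd0]
        · rw [ht0α, hβ d0 hd0]
      · intro g _ hg d hd hgd
        obtain ⟨g, rfl⟩ := QuotientGroup.mk'_surjective (center G) g
        obtain ⟨d, hdD, rfl⟩ := mem_map.1 hd
        rw [← hQ, ← map_inv, ← map_mul, ← map_mul] at hgd
        obtain ⟨d1, hd1, hd1'⟩ := mem_map.1 hgd
        obtain ⟨t, ht, d', hd', rfl⟩ := hdec g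
        have hz : d1⁻¹ * (t * d' * d * (t * d')⁻¹) ∈ center G := by
          rw [← hker, map_mul, map_inv, hd1', inv_mul_cancel]
        set e := d' * d * d'⁻¹ with he
        have heD : e ∈ D := D.mul_mem (D.mul_mem hd' hdD) (D.inv_mem hd')
        have hz' : d1⁻¹ * (t * e * t⁻¹) ∈ center G := by
          have : d1⁻¹ * (t * e * t⁻¹) = d1⁻¹ * (t * d' * d * (t * d')⁻¹) := by rw [he]; group
          rw [this]
          exact hz
        set z := d1⁻¹ * (t * e * t⁻¹) with hzdef
        have hzT : z ∈ T := by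
          rcases hcen _ hz' with h1 | h1
          · rw [h1]; exact one_mem _
          · rw [h1]; exact ht0
        have h1 : d1⁻¹ * e ∈ T ⊓ D := by
          refine ⟨?_, D.mul_mem (D.inv_mem hd1) heD⟩
          have h2 : d1⁻¹ * e = z * (t * (e⁻¹ * t⁻¹ * e)) := by rw [hzdef]; group
          rw [h2]
          refine T.mul_mem hzT (T.mul_mem ht ?_)
          have := hT.conj_mem _ (T.inv_mem ht) e⁻¹
          rwa [inv_inv] at this
        rw [hTDbot, mem_bot, inv_mul_eq_one] at h1
        subst h1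
        have h2 : t * e * t⁻¹ = e * z := by rw [hzdef]; group
        have hz1 : z = 1 := by
          rcases hcen _ hz' with h3 | h3
          · exact h3
          · exfalso
            have ho : Odd (orderOf e) := hDodd.of_dvd_nat (Subgroup.orderOf_dvd_natCard D heD)
            have h4 : (t * e * t⁻¹) ^ orderOf e = 1 := by
              rw [conj_pow, pow_orderOf_eq_one, mul_one, mul_inv_cancel]
            rw [h2, (show Commute e z from mem_center_iff.1 hz' e).mul_pow, pow_orderOf_eq_one, one_mul, h3] at h4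
            obtain ⟨k, hk⟩ := ho
            rw [hk, pow_succ, pow_mul, pow_two, hsq, one_pow, one_mul] at h4
            exact ht01 h4
        rw [hz1, mul_one] at h2
        have h3 : t * e = e * t := mul_inv_eq_iff_eq_mul.1 h2
        by_cases he1 : e = 1
        · have : d = 1 := by
            have h5 : d' * d * d'⁻¹ = 1 := by rw [← he]; exact he1
            rw [mul_inv_eq_one] at h5
            exact mul_eq_left.1 h5
          rw [this, map_one]
        · exfalso
          apply hg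
          rcases hcent e heD he1 t ht h3 with rfl | rfl
          · rw [one_mul]
            exact mem_map_of_mem _ hd'
          · rw [← hQ, map_mul, (hker t).2 ht0c, one_mul]
            exact mem_map_of_mem _ hd'
  · -- `t0` is not central in `T`
    left
    push Not at hcase
    set Z : Subgroup G := (center T).map T.subtype with hZ
    have hZn : Z.Normal := ConjAct.normal_of_characteristic_of_normal
    have hZT : Z ≤ T := by
      rw [hZ]
      exact map_subtype_le _
    have hZ1 : Z ≠ ⊥ := by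
      have : Nontrivial T := (nontrivial_iff_ne_bot T).2 hT1
      have h1 : Nontrivial (center T) := hT2.center_nontrivial
      intro h2
      rw [hZ, map_eq_bot_iff_of_injective _ T.subtype_injective] at h2
      exact (nontrivial_iff_ne_bot _).1 h1 h2
    have ht0Z : t0 ∉ Z := by
      intro h1
      obtain ⟨⟨x, hx⟩, hxc, hxt⟩ := mem_map.1 h1
      have hxt' : x = t0 := hxt
      subst hxt'
      obtain ⟨t, ht, htt⟩ := hcase
      exact htt (congrArg Subtype.val (mem_center_iff.1 hxc ⟨t, ht⟩))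
    refine ⟨Z ⊔ D, index_two_pow hn le_sup_right, D.subgroupOf (Z ⊔ D), frob_subgroup le_sup_right hne ?_ ?_⟩
    · intro h1
      apply hZ1
      have h2 : Z ≤ D := by rw [h1]; exact le_sup_left
      rw [eq_bot_iff, ← hTDbot]
      exact le_inf hZT h2
    · intro g hg hgD d hd hgd
      obtain ⟨z, hz, d', hd', rfl⟩ := mem_sup_of_normal_left.1 hg
      set e := d' * d * d'⁻¹ with he
      have heD : e ∈ D := D.mul_mem (D.mul_mem hd' hd) (D.inv_mem hd')
      have h1 : z * e * z⁻¹ ∈ D := by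
        have : z * e * z⁻¹ = z * d' * d * (z * d')⁻¹ := by rw [he]; group
        rw [this]
        exact hgd
      have h2 : z * e * z⁻¹ * e⁻¹ ∈ T ⊓ D := by
        refine ⟨?_, D.mul_mem h1 (D.inv_mem heD)⟩
        have h3 : z * e * z⁻¹ * e⁻¹ = z * (e * z⁻¹ * e⁻¹) := by group
        rw [h3]
        exact T.mul_mem (hZT hz) (hT.conj_mem _ (T.inv_mem (hZT hz)) e)
      rw [hTDbot, mem_bot, mul_inv_eq_one, mul_inv_eq_iff_eq_mul] at h2
      by_cases he1 : e = 1
      · rw [he, mul_inv_eq_one] at he1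
        exact mul_eq_left.1 he1
      · exfalso
        rcases hcent e heD he1 z (hZT hz) h2 with rfl | rfl
        · rw [one_mul] at hgD
          exact hgD hd'
        · exact ht0Z hz

/-- the case of a stabilizer of 2-power index, `G ≠ T D` -/
theorem case_b (hs : Group.IsSolvable G) {D T : Subgroup G} (E : ETI D)
    (hne : D ≠ ⊥) (hDodd : Odd (Nat.card D))
    {n : ℕ} (hn : D.index = 2 ^ n) (hT : T.Normal) (hT2 : IsPGroup 2 T) (hT1 : T ≠ ⊥)
    (hTmax : ∀ N : Subgroup G, N.Normal → IsPGroup 2 N → N ≤ T) (hTD : T ⊔ D ≠ ⊤) : H355.Lsp.One G := by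
  have : Fact (Nat.Prime 2) := ⟨Nat.prime_two⟩
  have hTDbot : T ⊓ D = ⊥ := inf_eq_bot_of_two hT2 hDodd
  set Q := QuotientGroup.mk' T with hQ
  have hker : ∀ x : G, Q x = 1 ↔ x ∈ T := fun x => by
    rw [hQ, QuotientGroup.mk'_apply, QuotientGroup.eq_one_iff]
  have hnt : Nontrivial (G ⧸ T) := by
    rw [QuotientGroup.nontrivial_iff]
    intro h1
    apply hTD
    rw [h1, top_sup_eq]
  have hsQ : Group.IsSolvable (G ⧸ T) := inferInstance
  obtain ⟨A, hA, hA1, hAmin⟩ := exists_minimal (G := G ⧸ T)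
  obtain ⟨-, p, hp, hAp⟩ := Cfsg.Agent.S0043.result A hA1 hAmin
  have : Fact p.Prime := ⟨hp⟩
  have hp2 : p ≠ 2 := by
    rintro rfl
    apply hA1
    have h1 : IsPGroup 2 (A.comap Q) := by
      intro x
      have h2 : (Q x) ^ 2 = 1 := hAp _ x.2
      rw [← map_pow, hker] at h2
      obtain ⟨k, hk⟩ := hT2 ⟨_, h2⟩
      have hk' : ((x : G) ^ 2) ^ 2 ^ k = 1 := congrArg Subtype.val hk
      refine ⟨k + 1, Subtype.ext ?_⟩
      show (x : G) ^ 2 ^ (k + 1) = 1
      rw [pow_succ', pow_mul, hk']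
    have h3 := hTmax _ inferInstance h1
    rw [eq_bot_iff]
    intro a ha
    obtain ⟨x, rfl⟩ := QuotientGroup.mk'_surjective T a
    rw [mem_bot]
    exact (hker x).2 (h3 ha)
  obtain ⟨-, hAodd⟩ := odd_card_of_exp hp hp2 hAp
  have hAD : A ≤ D.map Q := by
    refine le_of_odd_normal (k := n) hAodd ?_
    rw [← hn]
    exact index_map_dvd D (QuotientGroup.mk'_surjective T)
  set Y := A.comap Q with hY
  have hYn : Y.Normal := inferInstance
  have hTY : T ≤ Y := by
    intro t ht
    rw [hY, mem_comap, (hker t).2 ht]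
    exact one_mem _
  have hYdec : ∀ y ∈ Y, ∃ t ∈ T, ∃ d ∈ Y ⊓ D, y = d * t := by
    intro y hy
    obtain ⟨d, hd, hdy⟩ := mem_map.1 (hAD hy)
    have h1 : d⁻¹ * y ∈ T := by rw [← hker, map_mul, map_inv, hdy, inv_mul_cancel]
    refine ⟨d⁻¹ * y, h1, d, ⟨?_, hd⟩, by group⟩
    have h2 : y = d * (d⁻¹ * y) := by group
    rw [h2] at hy
    exact (Y.mul_mem_cancel_right (hTY h1)).1 hy
  have hD0 : Y ⊓ D ≠ ⊥ := by
    intro h1
    apply hA1
    rw [eq_bot_iff]
    intro a ha
    obtain ⟨y, rfl⟩ := QuotientGroup.mk'_surjective T a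
    obtain ⟨t, ht, d, hd, rfl⟩ := hYdec y ha
    rw [h1, mem_bot] at hd
    rw [hd, one_mul, mem_bot]
    exact (hker t).2 ht
  have hD0p : IsPGroup p ↥((Y ⊓ D).subgroupOf Y) := by
    intro x
    refine ⟨1, Subtype.ext (Subtype.ext ?_)⟩
    show ((x : Y) : G) ^ p ^ 1 = 1
    rw [pow_one]
    have h1 : (Q ((x : Y) : G)) ^ p = 1 := hAp _ (x : Y).2
    rw [← map_pow, hker] at h1
    have h2 : ((x : Y) : G) ^ p ∈ T ⊓ D := ⟨h1, D.pow_mem (x.2 : ((x : Y) : G) ∈ Y ⊓ D).2 p⟩
    rw [hTDbot] at h2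
    exact h2
  have hidx : ¬ p ∣ ((Y ⊓ D).subgroupOf Y).index := by
    intro h1
    have h2 : (Y ⊓ D).relIndex Y ∣ D.index := relIndex_dvd_of_normal
    have h3 := (h1.trans h2).trans (dvd_of_eq hn)
    have h4 := hp.dvd_of_dvd_pow h3
    exact hp2 ((Nat.prime_dvd_prime_iff_eq hp Nat.prime_two).1 h4)
  have hF := Sylow.normalizer_sup_eq_top (hD0p.toSylow hidx)
  have hmap : ((hD0p.toSylow hidx : Sylow p Y) : Subgroup Y).map Y.subtype = Y ⊓ D := by
    show ((Y ⊓ D).subgroupOf Y).map Y.subtype = Y ⊓ D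
    rw [subgroupOf_map_subtype, inf_eq_left]
    exact inf_le_left
  rw [hmap] at hF
  obtain ⟨m, hmN, hmTD⟩ : ∃ m ∈ normalizer (D : Set G), m ∉ T ⊔ D := by
    by_contra hcon
    push Not at hcon
    apply hTD
    rw [eq_top_iff, ← hF, sup_le_iff]
    refine ⟨(E.normalizer_le inf_le_right hD0).trans hcon, fun y hy => ?_⟩
    obtain ⟨t, ht, d, hd, rfl⟩ := hYdec y hy
    exact mul_mem (le_sup_right (a := T) hd.2) (le_sup_left (b := D) ht)
  have hmD : m ∉ D := fun h => hmTD (le_sup_right (a := T) h)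
  refine ⟨T ⊔ D, index_two_pow hn le_sup_right, D.subgroupOf (T ⊔ D), frob_subgroup le_sup_right hne ?_ ?_⟩
  · intro h1
    apply hT1
    have h2 : T ≤ D := by rw [h1]; exact le_sup_left
    rw [eq_bot_iff, ← hTDbot]
    exact le_inf le_rfl h2
  · intro g hg hgD d hd hgd
    by_contra hd1
    have h1 := E.ti g d hd hd1 hgd
    have h2 := E.mul g m h1 hmN hgD hmD
    exact hmTD ((mul_mem_cancel_left hg).1 (le_sup_right (a := T) h2))

/-- **LSP-H**: solvable groups of fixity two with odd point stabilizers -/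
theorem solvable_case (h : Fix2 G Ω) (hodd : ∀ α : Ω, Odd (Nat.card (MulAction.stabilizer G α)))
    (hs : Group.IsSolvable G) : One G ∨ Two G := by
  obtain ⟨g, α, β, hg, hαβ, hgα, hgβ⟩ := exists_pair h
  set D := stabilizer G α ⊓ stabilizer G β with hD
  have hgD : g ∈ D := ⟨hgα, hgβ⟩
  have hne : D ≠ ⊥ := by
    intro h1
    rw [h1] at hgD
    exact hg hgD
  have hDodd : Odd (Nat.card D) := (hodd α).of_dvd_nat (Subgroup.card_dvd_of_le inf_le_left)
  have E : ETI D := eti h.fix hαβ hne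
  obtain ⟨C, hDC, hCodd, n, hn⟩ := exists_hall hDodd
  by_cases hCD : D = C
  · rw [← hCD] at hn
    have hcore : ∀ N : Subgroup G, N.Normal → Odd (Nat.card N) → N = ⊥ := by
      intro N hN hNo
      exact normal_eq_bot h hN ((le_of_odd_normal hNo (dvd_of_eq hn)).trans inf_le_left)
    obtain ⟨T, hT, hT2, hTmax⟩ := exists_odd_core (G := G)
    have hT1 : T ≠ ⊥ := by
      rintro rfl
      have : Nontrivial G := ⟨g, 1, hg⟩
      obtain ⟨A, hA, hA1, hAmin⟩ := exists_minimal (G := G)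
      obtain ⟨-, p, hp, hAp⟩ := Cfsg.Agent.S0043.result A hA1 hAmin
      by_cases hp2 : p = 2
      · subst hp2
        refine hA1 (le_bot_iff.1 (hTmax A hA fun x => ⟨1, ?_⟩))
        rw [pow_one]
        exact Subtype.ext (hAp x x.2)
      · exact hA1 (hcore A hA (odd_card_of_exp hp hp2 hAp).2)
    by_cases hTD : T ⊔ D = ⊤
    · exact case_a h hαβ hD hne hodd hn hT hT2 hT1 hTD
    · exact Or.inl (case_b hs E hne hDodd hn hT hT2 hT1 hTmax hTD)
  · left
    refine ⟨C, ⟨n, hn⟩, D.subgroupOf C, frob_subgroup hDC hne hCD ?_⟩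
    intro x hx hxD d hd hxd
    by_contra hd1
    exact hxD (E.mem_of_odd (E.ti x d hd hd1 hxd) (hCodd.of_dvd_nat (Subgroup.orderOf_dvd_natCard C hx)))

end Cfsg.Agent.H779.Lsp
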